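import Groth.Agent.Lib.EtLim24.Base
import Groth.Agent.Lib.EtStalk.JCont
import Groth.Agent.Lib.EtStalk.Restr
import Groth.Agent.Lib.EtColim.Sections24

/-!
# Sections of inverse images along a morphism over an étale scheme
-/

set_option autoImplicit false
set_option linter.style.haveILetI false
set_option linter.unusedSectionVars false
set_option backward.isDefEq.respectTransparency.types false

universe u

open CategoryTheory CategoryTheory.Limits AlgebraicGeometry Opposite

namespace Groth.Agent.StrictLim24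

open Groth.Agent.EtStalk

variable {A B C : Scheme.{u}}

/-- The section of the base change given by a morphism over the base. -/
noncomputable def topLift (x : A ⟶ C) (U : C.Etale) (y : A ⟶ U.left) (hy : y ≫ U.hom = x) :
    EtCoh.top A ⟶ (EtCoh.bc x).obj U :=
  MorphismProperty.Over.homMk (pullback.lift y (𝟙 A) (hy.trans (Category.id_comp x).symm))
    (pullback.lift_snd _ _ _)

lemma topLift_fst (x : A ⟶ C) (U : C.Etale) (y : A ⟶ U.left) (hy : y ≫ U.hom = x) :
    (topLift x U y hy).left ≫ pullback.fst U.hom x = y :=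
  pullback.lift_fst _ _ _

/-- The inverse image of a section, restricted along a morphism over the base. -/
noncomputable def sec (x : A ⟶ C) (F : EtCoh.Ab C) (U : C.Etale) (y : A ⟶ U.left) (hy : y ≫ U.hom = x) :
    F.obj.obj (op U) →+ ((EtCoh.pull x).obj F).obj.obj (op (EtCoh.top A)) :=
  (((EtCoh.pull x).obj F).obj.map (topLift x U y hy).op).hom.comp
    (((EtCoh.pullPushAdj x).unit.app F).hom.app (op U)).hom

lemma sec_apply (x : A ⟶ C) (F : EtCoh.Ab C) (U : C.Etale) (y : A ⟶ U.left) (hy : y ≫ U.hom = x)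
    (s : F.obj.obj (op U)) :
    sec x F U y hy s = ((EtCoh.pull x).obj F).obj.map (topLift x U y hy).op
      (((EtCoh.pullPushAdj x).unit.app F).hom.app (op U) s) := rfl

lemma sec_map (x : A ⟶ C) (F : EtCoh.Ab C) {U U' : C.Etale} (g : U' ⟶ U) (y : A ⟶ U'.left)
    (hy : y ≫ U'.hom = x) (y' : A ⟶ U.left) (hy' : y' ≫ U.hom = x) (h : y ≫ g.left = y')
    (s : F.obj.obj (op U)) : sec x F U' y hy (F.obj.map g.op s) = sec x F U y' hy' s := by
  rw [sec_apply, sec_apply]
  refine (congrArg (((EtCoh.pull x).obj F).obj.map (topLift x U' y hy).op)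
    (NatTrans.naturality_apply ((EtCoh.pullPushAdj x).unit.app F).hom g.op s)).trans ?_
  refine (Functor.map_comp_apply ((EtCoh.pull x).obj F).obj ((EtCoh.bc x).map g).op (topLift x U' y hy).op _).symm.trans ?_
  rw [← op_comp]
  refine congrArg (fun m : EtCoh.top A ⟶ (EtCoh.bc x).obj U => ((EtCoh.pull x).obj F).obj.map m.op _) ?_
  refine EtLim24.bc_hom_ext ?_
  refine ((congrArg (· ≫ pullback.fst U.hom x) (EtLim24.comp_left' _ _)).trans (Category.assoc _ _ _)).trans ?_
  refine (congrArg ((topLift x U' y hy).left ≫ ·) (EtCoh.isPullback_bc_map x g).w).trans ?_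
  refine (Category.assoc _ _ _).symm.trans ?_
  rw [topLift_fst]
  exact h.trans (topLift_fst x U y' hy').symm

lemma sec_nat (x : A ⟶ C) {F G : EtCoh.Ab C} (a : F ⟶ G) (U : C.Etale) (y : A ⟶ U.left) (hy : y ≫ U.hom = x)
    (s : F.obj.obj (op U)) :
    ((EtCoh.pull x).map a).hom.app (op (EtCoh.top A)) (sec x F U y hy s) =
      sec x G U y hy (a.hom.app (op U) s) := by
  rw [sec_apply, sec_apply, NatTrans.naturality_apply ((EtCoh.pull x).map a).hom (topLift x U y hy).op]
  refine congrArg (((EtCoh.pull x).obj G).obj.map (topLift x U y hy).op) ?_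
  exact (congrArg (fun m : F ⟶ (EtCoh.push x).obj ((EtCoh.pull x).obj G) => m.hom.app (op U) s)
    ((EtCoh.pullPushAdj x).unit.naturality a)).symm

/-- The final object pulled back. -/
noncomputable def topUp (v : A ⟶ B) : EtCoh.top A ⟶ (EtCoh.bc v).obj (EtCoh.top B) :=
  topLift v (EtCoh.top B) v (Category.comp_id v)

/-- Compatibility with composition. -/
lemma sec_trans (v : A ⟶ B) (u : B ⟶ C) (w : A ⟶ C) (e : v ≫ u = w) (F : EtCoh.Ab C) (U : C.Etale)
    (y : B ⟶ U.left) (hy : y ≫ U.hom = u) (hy' : (v ≫ y) ≫ U.hom = w) (s : F.obj.obj (op U)) :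
    ((EtCoh.pull w).obj F).obj.map (topUp v).op
      (((EtCoh.pullPushAdj v).homEquiv _ _ ((EtLim24.pullT v u w e).inv.app F)).hom.app (op (EtCoh.top B))
        (sec u F U y hy s)) = sec w F U (v ≫ y) hy' s := by
  let η := (EtCoh.pullPushAdj v).homEquiv _ _ ((EtLim24.pullT v u w e).inv.app F)
  have hη : (EtCoh.pullPushAdj u).unit.app F ≫ (EtCoh.push u).map η ≫ (EtLim24.pc v u w e).hom.app _ =
      (EtCoh.pullPushAdj w).unit.app F := by
    have h := EtLim24.transpose_comp v u w e (𝟙 ((EtCoh.pull u).obj F)) ((EtLim24.pullT v u w e).inv.app F)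
    rw [Adjunction.homEquiv_id] at h
    refine h.trans ?_
    rw [← (EtCoh.pullPushAdj w).homEquiv_id]
    refine congrArg ((EtCoh.pullPushAdj w).homEquiv F _) ?_
    rw [CategoryTheory.Functor.map_id]
    erw [Category.id_comp]
    exact Iso.hom_inv_id_app _ _
  let d : ((EtCoh.push v).obj ((EtCoh.pull w).obj F)).obj.obj (op ((EtCoh.bc u).obj U)) :=
    η.hom.app (op ((EtCoh.bc u).obj U)) (((EtCoh.pullPushAdj u).unit.app F).hom.app (op U) s)
  have hd : ((EtCoh.pull w).obj F).obj.map ((EtLim24.bcc v u w e).inv.app U).op d =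
      ((EtCoh.pullPushAdj w).unit.app F).hom.app (op U) s := by
    refine (EtLim24.pc_app v u w e _ U d).symm.trans ?_
    exact congrArg (fun m : F ⟶ (EtCoh.push w).obj ((EtCoh.pull w).obj F) => m.hom.app (op U) s) hη
  have hd' : d = ((EtCoh.pull w).obj F).obj.map ((EtLim24.bcc v u w e).hom.app U).op
      (((EtCoh.pullPushAdj w).unit.app F).hom.app (op U) s) := by
    rw [← hd]
    refine Eq.symm ((Functor.map_comp_apply ((EtCoh.pull w).obj F).obj ((EtLim24.bcc v u w e).inv.app U).op
      ((EtLim24.bcc v u w e).hom.app U).op d).symm.trans ?_)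
    rw [← op_comp, Iso.hom_inv_id_app, op_id]
    exact ConcreteCategory.congr_hom (((EtCoh.pull w).obj F).obj.map_id _) d
  refine (congrArg (((EtCoh.pull w).obj F).obj.map (topUp v).op)
    (NatTrans.naturality_apply η.hom (topLift u U y hy).op _)).trans ?_
  show ((EtCoh.pull w).obj F).obj.map (topUp v).op
    (((EtCoh.pull w).obj F).obj.map ((EtCoh.bc v).map (topLift u U y hy)).op d) = _
  rw [hd', sec_apply, ← Functor.map_comp_apply, ← Functor.map_comp_apply, ← op_comp, ← op_comp]
  refine congrArg (fun m : EtCoh.top A ⟶ (EtCoh.bc w).obj U => ((EtCoh.pull w).obj F).obj.map m.op _) ?_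
  refine EtLim24.bc_hom_ext ?_
  refine Eq.trans ?_ (topLift_fst w U (v ≫ y) hy').symm
  simp only [EtLim24.comp_left', Category.assoc]
  refine (congrArg (fun t => (topUp v).left ≫ ((EtCoh.bc v).map (topLift u U y hy)).left ≫ t)
    (EtLim24.bcc_hom_left_fst v u w e U)).trans ?_
  refine (congrArg (fun t => (topUp v).left ≫ t) (Category.assoc _ _ _).symm).trans ?_
  refine (congrArg (fun t => (topUp v).left ≫ t ≫ pullback.fst U.hom u)
    (EtCoh.isPullback_bc_map v (topLift u U y hy)).w).trans ?_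
  refine (congrArg (fun t => (topUp v).left ≫ t) (Category.assoc _ _ _)).trans ?_
  refine (congrArg (fun t => (topUp v).left ≫ pullback.fst (EtCoh.top B).hom v ≫ t) (topLift_fst u U y hy)).trans ?_
  refine (Category.assoc _ _ _).symm.trans ?_
  exact congrArg (· ≫ y) (topLift_fst v (EtCoh.top B) v (Category.comp_id v))

/-- Along an étale scheme the sections of the inverse image are the sections. -/
theorem bijective_sec (x : A ⟶ C) [Etale x] (F : EtCoh.Ab C) (U : C.Etale) (y : A ⟶ U.left) [IsIso y]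
    (hy : y ≫ U.hom = x) : Function.Bijective (sec x F U y hy) := by
  let G := (EtShriek.restrAlong x).obj F
  let yi : A ≅ U.left := asIso y
  let σ : (EtShriek.compEtale x).obj (EtCoh.top A) ≅ U :=
    MorphismProperty.Over.isoMk yi (hy.trans (Category.id_comp x).symm)
  have hu := Adjunction.unit_leftAdjointUniq_hom_app (restrPushAdj x) (EtCoh.pullPushAdj x) F
  have key : ∀ s, sec x F U y hy s =
      ((restrPullIso x).hom.app F).hom.app (op (EtCoh.top A)) (F.obj.map σ.hom.op s) := by
    intro s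
    rw [sec_apply]
    refine (congrArg (((EtCoh.pull x).obj F).obj.map (topLift x U y hy).op)
      (congrArg (fun m : F ⟶ (EtCoh.push x).obj ((EtCoh.pull x).obj F) => m.hom.app (op U) s) hu).symm).trans ?_
    refine (NatTrans.naturality_apply ((restrPullIso x).hom.app F).hom (topLift x U y hy).op _).symm.trans ?_
    refine congrArg (((restrPullIso x).hom.app F).hom.app (op (EtCoh.top A))) ?_
    show F.obj.map ((EtShriek.compEtale x).map (topLift x U y hy)).op
      (F.obj.map ((compBcAdj x).counit.app U).op s) = _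
    rw [← Functor.map_comp_apply, ← op_comp]
    refine congrArg (fun m : (EtShriek.compEtale x).obj (EtCoh.top A) ⟶ U => F.obj.map m.op s) ?_
    refine MorphismProperty.Over.Hom.ext ?_
    refine (EtLim24.comp_left' _ _).trans ?_
    have hc : ((compBcAdj x).counit.app U).left = pullback.fst U.hom x := by
      simp [compBcAdj, MorphismProperty.Over.mapPullbackAdj]
    rw [hc]
    show (topLift x U y hy).left ≫ pullback.fst U.hom x = y
    exact topLift_fst x U y hy
  haveI : IsIso (((restrPullIso x).hom.app F).hom.app (op (EtCoh.top A))) :=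
    inferInstanceAs (IsIso (((sheafToPresheaf _ _).map ((restrPullIso x).hom.app F)).app _))
  have h1 := ConcreteCategory.bijective_of_isIso (((restrPullIso x).hom.app F).hom.app (op (EtCoh.top A)))
  have h2 := ConcreteCategory.bijective_of_isIso (F.obj.map σ.hom.op)
  exact (funext key : ⇑(sec x F U y hy) = _) ▸ h1.comp h2

/-- Maps out of `ℤ` are global sections. -/
noncomputable def topSecEquiv (X : Scheme.{u}) (F : EtCoh.Ab X) :
    (EtCoh.const X ℤ ⟶ F) ≃+ F.obj.obj (op (EtCoh.top X)) :=
  (((constantSheafAdj X.smallEtaleTopology AddCommGrpCat.{u + 1}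
    (EtColim.isTerminalTop' X)).homAddEquiv _ _).trans (AddCommGrpCat.uliftZMultiplesAddEquiv _))

/-- Maps out of `ℤ` are global sections, naturally. -/
noncomputable def topSecIso (X : Scheme.{u}) :
    preadditiveCoyoneda.obj (op (EtCoh.const X ℤ)) ≅ EtColim.secFun (EtCoh.top X) :=
  NatIso.ofComponents
    (fun F => AddEquiv.toAddCommGrpIso (X := (preadditiveCoyoneda.obj (op (EtCoh.const X ℤ))).obj F)
      (Y := (EtColim.secFun (EtCoh.top X)).obj F) (topSecEquiv X F))
    (fun {F G} a => AddCommGrpCat.ext fun x =>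
      congrArg (AddCommGrpCat.uliftZMultiplesAddEquiv _)
        ((constantSheafAdj X.smallEtaleTopology AddCommGrpCat.{u + 1}
          (EtColim.isTerminalTop' X)).homEquiv_naturality_right x a))

/-- Two jointly surjective families with the same kernels give isomorphic groups. -/
theorem exists_iso_of_reps {ι : Type*} [Preorder ι] [IsDirected ι (· ≤ ·)] [Nonempty ι]
    (M : ι → AddCommGrpCat.{u + 1}) {P Q : AddCommGrpCat.{u + 1}} (T : ∀ ⦃i j : ι⦄, i ≤ j → (M i ⟶ M j))
    (a : ∀ i, M i ⟶ P) (b : ∀ i, M i ⟶ Q) (ha : ∀ ⦃i j⦄ (h : i ≤ j), T h ≫ a j = a i)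
    (hb : ∀ ⦃i j⦄ (h : i ≤ j), T h ≫ b j = b i) (hsa : ∀ p : P, ∃ i x, a i x = p)
    (hsb : ∀ q : Q, ∃ i x, b i x = q) (h : ∀ i x, a i x = 0 ↔ b i x = 0) :
    ∃ e : P ≅ Q, ∀ i, a i ≫ e.hom = b i := by
  choose ia xa hxa using hsa
  have ta : ∀ {i j} (hij : i ≤ j) x, a j (T hij x) = a i x := fun hij x => ConcreteCategory.congr_hom (ha hij) x
  have tb : ∀ {i j} (hij : i ≤ j) x, b j (T hij x) = b i x := fun hij x => ConcreteCategory.congr_hom (hb hij) x
  have hwd : ∀ {i j} x y, a i x = a j y → b i x = b j y := by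
    intro i j x y he
    obtain ⟨k, hik, hjk⟩ := directed_of (· ≤ ·) i j
    have h0 : a k (T hik x - T hjk y) = 0 := by rw [map_sub, ta, ta, he, sub_self]
    have h1 := (h k _).1 h0
    rwa [map_sub, tb, tb, sub_eq_zero] at h1
  let f : P →+ Q := AddMonoidHom.mk' (fun p => b (ia p) (xa p)) fun p q => by
    obtain ⟨k, h₁, h₂⟩ := directed_of (· ≤ ·) (ia p) (ia q)
    show b (ia (p + q)) (xa (p + q)) = b (ia p) (xa p) + b (ia q) (xa q)
    rw [← tb h₁ (xa p), ← tb h₂ (xa q), ← map_add]
    refine hwd _ _ ?_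
    rw [hxa, map_add, ta, ta, hxa, hxa]
  have hf : ∀ i x, f (a i x) = b i x := fun i x => hwd _ _ (hxa _)
  have hbij : Function.Bijective f := by
    refine ⟨(injective_iff_map_eq_zero f).2 fun p hp => ?_, fun q => ?_⟩
    · rw [← hxa p] at hp ⊢
      rw [hf] at hp
      exact (h _ _).2 hp
    · obtain ⟨i, x, rfl⟩ := hsb q
      exact ⟨a i x, hf i x⟩
  exact ⟨(AddEquiv.ofBijective f hbij).toAddCommGrpIso, fun i => AddCommGrpCat.ext fun x => hf i x⟩

end Groth.Agent.StrictLim24
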