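import Groth.Agent.Lib.StrictLim24.Ring
import Groth.Prelude.Def_Hens2
import Mathlib.AlgebraicGeometry.AffineTransitionLimit
import Mathlib.CategoryTheory.Presentable.Directed
import Mathlib.CategoryTheory.Limits.Types.Filtered
import Mathlib.Algebra.Category.Ring.FilteredColimits

/-!
# The strict localization is a limit of affine étale neighbourhoods
-/

set_option autoImplicit false
set_option linter.style.haveILetI false
set_option backward.isDefEq.respectTransparency.types false

universe u

open CategoryTheory CategoryTheory.Limits AlgebraicGeometry Opposite IsLocalRing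

namespace Groth.Agent.StrictLim24

open Groth.Agent

/-- A morphism as a limit of affine schemes étale over the target. -/
structure StrictSys {S P : Scheme.{u}} (σ : P ⟶ S) where
  ι : Type u
  [pre : Preorder ι]
  [dir : IsDirected ι (· ≤ ·)]
  [ne : Nonempty ι]
  W : ιᵒᵖ ⥤ S.Etale
  isAffine : ∀ i : ι, IsAffine (W.obj (op i)).left
  π : (Functor.const ιᵒᵖ).obj P ⟶ W ⋙ Scheme.Etale.forget S ⋙ Over.forget S
  hπ : ∀ i : ι, π.app (op i) ≫ (W.obj (op i)).hom = σ
  isLimit : IsLimit (Cone.mk P π)

attribute [instance] StrictSys.pre StrictSys.dir StrictSys.ne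

section Affine

variable {A : Type u} [CommRing A] {K : Type u} [Field K] [Algebra A K]

/-- The coordinate rings of the neighbourhoods. -/
noncomputable def ringDiag : Hens.EtNbhd A K ⥤ CommRingCat.{u} where
  obj i := CommRingCat.of i.toNbhd.S
  map f := CommRingCat.ofHom f.1.toRingHom

variable {S : Scheme.{u}} (j : Spec (CommRingCat.of A) ⟶ S) [AlgebraicGeometry.Etale j]

/-- The neighbourhoods as étale schemes. -/
noncomputable def schDiag : (Hens.EtNbhd A K)ᵒᵖ ⥤ S.Etale where
  obj i :=
    haveI : Algebra.Etale A i.unop.toNbhd.S := inferInstance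
    haveI : AlgebraicGeometry.Etale (Spec.map (CommRingCat.ofHom (algebraMap A i.unop.toNbhd.S))) :=
      HasRingHomProperty.Spec_iff.2 (RingHom.etale_algebraMap.2 inferInstance)
    Scheme.Etale.mk (Spec.map (CommRingCat.ofHom (algebraMap A i.unop.toNbhd.S)) ≫ j)
  map {a b} f := MorphismProperty.Over.homMk (Spec.map (CommRingCat.ofHom f.unop.1.toRingHom)) (by
    refine (Category.assoc _ _ _).symm.trans (congrArg (· ≫ j) ?_)
    exact (Spec.map_comp (CommRingCat.ofHom (algebraMap A b.unop.toNbhd.S))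
      (CommRingCat.ofHom f.unop.1.toRingHom)).symm.trans
        (congrArg (fun q => Spec.map (CommRingCat.ofHom q)) f.unop.1.comp_algebraMap))
  map_id a := MorphismProperty.Over.Hom.ext (Spec.map_id _)
  map_comp f g := MorphismProperty.Over.Hom.ext
    ((congrArg Spec.map (show CommRingCat.ofHom (g.unop ≫ f.unop).1.toRingHom =
      CommRingCat.ofHom g.unop.1.toRingHom ≫ CommRingCat.ofHom f.unop.1.toRingHom from rfl)).trans
      (Spec.map_comp _ _))

theorem nonempty_strictSys_affine (R : CommRingCat.{u}) [Algebra A R]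
    (φ : ∀ i : Hens.EtNbhd A K, i.toNbhd.S →ₐ[A] R)
    (hφ : ∀ (a b : Hens.EtNbhd A K) (f : a ⟶ b) x, φ b (f.1 x) = φ a x) (hsurj : ∀ r, ∃ i y, φ i y = r)
    (hinj : ∀ i a b, φ i a = φ i b → ∃ (k : Hens.EtNbhd A K) (f : i ⟶ k), f.1 a = f.1 b) :
    Nonempty (StrictSys (Spec.map (CommRingCat.ofHom (algebraMap A R)) ≫ j)) := by
  obtain ⟨ι, hι, hdir, hne, F, hF⟩ := IsFiltered.exists_directed (Hens.EtNbhd A K)
  let cc : Cocone (ringDiag (A := A) (K := K)) :=
    { pt := R
      ι :=
        { app := fun i => CommRingCat.ofHom (φ i).toRingHom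
          naturality := fun a b f => CommRingCat.hom_ext (RingHom.ext fun x => hφ a b f x) } }
  haveI : PreservesColimit (ringDiag (A := A) (K := K)) (forget CommRingCat.{u}) := inferInstance
  haveI : ReflectsColimit (ringDiag (A := A) (K := K)) (forget CommRingCat.{u}) :=
    reflectsColimit_of_reflectsIsomorphisms _ _
  have hcc : IsColimit cc := isColimitOfReflects (forget CommRingCat)
    (Types.FilteredColimit.isColimitOf' _ _ (fun x => by
      obtain ⟨i, y, hy⟩ := hsurj x
      exact ⟨i, y, hy.symm⟩) fun i x y h => hinj i x y h)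
  let cS : Cone (ringDiag (A := A) (K := K)).op := cc.op
  let c₁ := Scheme.Spec.mapCone cS
  have hc₁ : IsLimit c₁ := isLimitOfPreserves Scheme.Spec hcc.op
  have hc₂ : IsLimit (c₁.whisker F.op) := (Functor.Initial.isLimitWhiskerEquiv F.op c₁).symm hc₁
  refine ⟨{ ι := ι, W := F.op ⋙ schDiag j, isAffine := fun i => ?_, π := (c₁.whisker F.op).π, hπ := fun i => ?_,
            isLimit := hc₂ }⟩
  · show IsAffine (Spec (CommRingCat.of (F.obj i).toNbhd.S))
    infer_instance
  · show Spec.map (CommRingCat.ofHom (φ (F.obj i)).toRingHom) ≫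
      Spec.map (CommRingCat.ofHom (algebraMap A (F.obj i).toNbhd.S)) ≫ j = _
    rw [← Spec.map_comp_assoc]
    congr 2
    exact CommRingCat.hom_ext (φ (F.obj i)).comp_algebraMap

end Affine

/-- The strict localization is a limit of affine étale neighbourhoods. -/
theorem nonempty_strictSys (S : Scheme.{u}) (s : S) (R : Type u) [CommRing R] [IsLocalRing R]
    [Algebra (S.presheaf.stalk s) R] [IsLocalHom (algebraMap (S.presheaf.stalk s) R)]
    [Hensel.IsStrictHenselization (S.presheaf.stalk s) R] : Nonempty (StrictSys (Hens2.specOf S s R)) := by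
  obtain ⟨U, hU, hs, -⟩ := exists_isAffineOpen_mem_and_subset (X := S) (x := s) (U := ⊤) trivial
  letI : Algebra Γ(S, U) (S.presheaf.stalk s) := (S.presheaf.germ U s hs).hom.toAlgebra
  letI : Algebra Γ(S, U) R :=
    ((algebraMap (S.presheaf.stalk s) R).comp (algebraMap Γ(S, U) (S.presheaf.stalk s))).toAlgebra
  haveI : IsScalarTower Γ(S, U) (S.presheaf.stalk s) R := IsScalarTower.of_algebraMap_eq' rfl
  haveI : IsLocalization.AtPrime (S.presheaf.stalk s) (hU.primeIdealOf ⟨s, hs⟩).asIdeal :=
    hU.isLocalization_stalk ⟨s, hs⟩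
  obtain ⟨φ, h₁, -, h₂, h₃⟩ := exists_etale_system Γ(S, U) (hU.primeIdealOf ⟨s, hs⟩).asIdeal (S.presheaf.stalk s) R
  obtain ⟨T⟩ := nonempty_strictSys_affine hU.fromSpec (CommRingCat.of R) φ h₁ h₂ h₃
  have e : Spec.map (CommRingCat.ofHom (algebraMap Γ(S, U) R)) ≫ hU.fromSpec = Hens2.specOf S s R := by
    show Spec.map (S.presheaf.germ U s hs ≫ CommRingCat.ofHom (algebraMap (S.presheaf.stalk s) R)) ≫ hU.fromSpec = _
    rw [Spec.map_comp, Category.assoc]
    exact congrArg (fun q => Spec.map (CommRingCat.ofHom (algebraMap (S.presheaf.stalk s) R)) ≫ q)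
      (hU.fromSpecStalk_eq_fromSpecStalk hs)
  exact ⟨{ T with hπ := fun i => (T.hπ i).trans e }⟩

end Groth.Agent.StrictLim24
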