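import Groth.Agent.Lib.StrictLim24.Section
import Groth.Agent.Lib.StrictLim24.System
import Groth.Agent.Lib.EtStalk.Henselian
import Groth.Agent.Lib.EtStalk.ExtZero
import Groth.Agent.Lib.RDComp.Post
import Groth.Agent.Lib.RDComp.Acyclic
import Groth.Agent.Lib.ExtDerived.Natural

/-!
# Stalks of higher direct images
-/

set_option autoImplicit false
set_option linter.style.haveILetI false
set_option linter.unusedSectionVars false
set_option backward.isDefEq.respectTransparency.types false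

universe u

open CategoryTheory CategoryTheory.Limits AlgebraicGeometry Opposite CategoryTheory.Abelian

namespace Groth.Agent.StrictLim24

open Groth.Agent.EtStalk

variable {S : Scheme.{u}} {R : Type u} [CommRing R] [HenselianLocalRing R]
  [IsSepClosed (IsLocalRing.ResidueField R)] (σ : Spec (CommRingCat.of R) ⟶ S)

/-- An element of the fibre at the closed geometric point extends to the strict localization. -/
lemma exists_lift (V : S.Etale) (v : fib (closedPt R ≫ σ) V) :
    ∃ l : Spec (CommRingCat.of R) ⟶ V.left, l ≫ V.hom = σ ∧ closedPt R ≫ l = v.left := by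
  obtain ⟨τ, hτ⟩ := exists_section R (liftFib σ (closedPt R) v)
  refine ⟨τ.left ≫ pullback.fst V.hom σ, ?_, ?_⟩
  · exact (EtLim24.left_fst_hom τ).trans (Category.id_comp σ)
  · have h : closedPt R ≫ τ.left = (liftFib σ (closedPt R) v).left :=
      congrArg (fun r : fib (closedPt R) ((EtCoh.bc σ).obj V) => r.left) hτ
    refine (Category.assoc _ _ _).symm.trans ?_
    refine (congrArg (· ≫ pullback.fst V.hom σ) h).trans ?_
    exact pullback.lift_fst _ _ _

/-- Such an extension is unique. -/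
lemma lift_unique (V : S.Etale) (l l' : Spec (CommRingCat.of R) ⟶ V.left) (hl : l ≫ V.hom = σ)
    (hl' : l' ≫ V.hom = σ) (h : closedPt R ≫ l = closedPt R ≫ l') : l = l' := by
  haveI : AlgebraicGeometry.Etale V.hom := V.prop
  let T : Spec (CommRingCat.of R) ⟶ pullback V.hom V.hom := pullback.lift l l' (hl.trans hl'.symm)
  let pr := pullback.snd (pullback.diagonal V.hom) T
  have hzero : closedPt R ≫ T = (closedPt R ≫ l) ≫ pullback.diagonal V.hom := by
    have d₁ : pullback.diagonal V.hom ≫ pullback.fst V.hom V.hom = 𝟙 _ := pullback.diagonal_fst _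
    have d₂ : pullback.diagonal V.hom ≫ pullback.snd V.hom V.hom = 𝟙 _ := pullback.diagonal_snd _
    refine pullback.hom_ext ?_ ?_
    · refine ((Category.assoc _ _ _).trans (congrArg (closedPt R ≫ ·) (pullback.lift_fst _ _ _))).trans ?_
      exact ((Category.assoc _ _ _).trans ((congrArg ((closedPt R ≫ l) ≫ ·) d₁).trans (Category.comp_id _))).symm
    · refine ((Category.assoc _ _ _).trans (congrArg (closedPt R ≫ ·) (pullback.lift_snd _ _ _))).trans ?_
      exact h.symm.trans ((Category.assoc _ _ _).trans ((congrArg ((closedPt R ≫ l) ≫ ·) d₂).trans (Category.comp_id _))).symm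
  let q := pullback.lift (closedPt R ≫ l) (closedPt R) hzero.symm
  have hmem : IsLocalRing.closedPoint R ∈ Set.range pr.base := by
    refine ⟨q default, ?_⟩
    rw [← Scheme.Hom.comp_apply, pullback.lift_snd]
    rw [show (default : Spec (CommRingCat.of (IsLocalRing.ResidueField R))) =
      IsLocalRing.closedPoint (IsLocalRing.ResidueField R) from Subsingleton.elim _ _]
    exact IsLocalRing.comap_closedPoint (IsLocalRing.residue R)
  have htop : pr.opensRange = ⊤ := (IsLocalRing.closedPoint_mem_iff pr.opensRange).1 hmem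
  haveI : IsIso pr := (isIso_iff_isOpenImmersion_and_epi_base pr).2 ⟨inferInstance, by
    rw [TopCat.epi_iff_surjective]
    intro x
    exact (htop.symm.le (Set.mem_univ x) :)⟩
  have e : pullback.fst (pullback.diagonal V.hom) T ≫ pullback.diagonal V.hom = pr ≫ T := pullback.condition
  have e₁ : pullback.fst (pullback.diagonal V.hom) T = pr ≫ l := by
    refine (Category.comp_id _).symm.trans ?_
    refine (congrArg (pullback.fst (pullback.diagonal V.hom) T ≫ ·) (pullback.diagonal_fst V.hom).symm).trans ?_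
    refine (Category.assoc _ _ _).symm.trans ((congrArg (· ≫ pullback.fst V.hom V.hom) e).trans ?_)
    exact (Category.assoc _ _ _).trans (congrArg (pr ≫ ·) (pullback.lift_fst _ _ _))
  have e₂ : pullback.fst (pullback.diagonal V.hom) T = pr ≫ l' := by
    refine (Category.comp_id _).symm.trans ?_
    refine (congrArg (pullback.fst (pullback.diagonal V.hom) T ≫ ·) (pullback.diagonal_snd V.hom).symm).trans ?_
    refine (Category.assoc _ _ _).symm.trans ((congrArg (· ≫ pullback.snd V.hom V.hom) e).trans ?_)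
    exact (Category.assoc _ _ _).trans (congrArg (pr ≫ ·) (pullback.lift_snd _ _ _))
  exact (cancel_epi pr).1 (e₁.symm.trans e₂)

variable {σ} (T : StrictSys σ) {X : Scheme.{u}} (f : X ⟶ S)

namespace StrictSys

/-- The underlying schemes. -/
noncomputable abbrev D : T.ιᵒᵖ ⥤ Scheme.{u} := T.W ⋙ Scheme.Etale.forget S ⋙ Over.forget S

/-- The structure maps. -/
noncomputable def t : T.D ⟶ (Functor.const T.ιᵒᵖ).obj S where
  app i := (T.W.obj i).hom
  naturality a b g := (MorphismProperty.Over.w (T.W.map g)).trans (Category.comp_id _).symm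

/-- The system over `X`. -/
noncomputable abbrev Xs : T.ιᵒᵖ ⥤ Scheme.{u} := Descend.pbDiagram T.D T.t f

/-- The cone over `X`. -/
noncomputable abbrev cone : Cone (T.Xs f) :=
  Descend.pbCone T.D T.t f (Cone.mk _ T.π) (fun i => T.hπ i.unop) (IsPullback.of_hasPullback f σ)

/-- It is a limit. -/
noncomputable def isLimit_cone : IsLimit (T.cone f) :=
  Descend.pbIsLimit T.D T.t f (Cone.mk _ T.π) (fun i => T.hπ i.unop) (IsPullback.of_hasPullback f σ) T.isLimit

instance (i : T.ιᵒᵖ) : IsAffine (T.D.obj i) := T.isAffine i.unop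

omit [IsSepClosed (IsLocalRing.ResidueField R)] in
theorem qcqs_pullback_affine {A B C : Scheme.{u}} (p : A ⟶ C) (q : B ⟶ C) [IsAffine B] :
    (QuasiCompact p → CompactSpace ↥(pullback p q)) ∧ (QuasiSeparated p → QuasiSeparatedSpace ↥(pullback p q)) := by
  refine ⟨fun h => ?_, fun h => ?_⟩
  · haveI : QuasiCompact (pullback.snd p q) := MorphismProperty.pullback_snd (P := @QuasiCompact) p q h
    exact QuasiCompact.compactSpace_of_compactSpace (pullback.snd p q)
  · haveI : QuasiSeparated (pullback.snd p q) := MorphismProperty.pullback_snd (P := @QuasiSeparated) p q h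
    exact quasiSeparatedSpace_of_quasiSeparated (pullback.snd p q)

instance [QuasiCompact f] (i : T.ι) : CompactSpace ↥((T.Xs f).obj (op i)) :=
  (@qcqs_pullback_affine _ _ _ f (T.t.app (op i)) (T.isAffine i)).1 ‹_›

instance [QuasiSeparated f] (i : T.ι) : QuasiSeparatedSpace ↥((T.Xs f).obj (op i)) :=
  (@qcqs_pullback_affine _ _ _ f (T.t.app (op i)) (T.isAffine i)).2 ‹_›

lemma isAffineHom_map ⦃a b : T.ιᵒᵖ⦄ (h : a ⟶ b) : IsAffineHom ((T.Xs f).map h) :=
  MorphismProperty.of_isPullback (P := @IsAffineHom) (Descend.pbMap_isPullback T.D T.t f h).flip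
    (inferInstance : IsAffineHom (T.D.map h))

/-- The projection to `X`. -/
noncomputable abbrev b (i : T.ι) : (T.Xs f).obj (op i) ⟶ X := pullback.fst f (T.t.app (op i))

lemma hb ⦃i j : T.ι⦄ (h : i ≤ j) : EtLim24.uM (T.Xs f) h ≫ T.b f i = T.b f j := Descend.pbMap_fst _ _ _ _

lemma hb' (i : T.ι) : EtLim24.pr (T.Xs f) (T.cone f) i ≫ T.b f i = pullback.fst f σ :=
  Descend.pbCone_fst _ _ _ _ _ _ _

instance (i : T.ι) : AlgebraicGeometry.Etale (T.b f i) :=
  MorphismProperty.pullback_fst (P := @AlgebraicGeometry.Etale) f (T.t.app (op i)) (T.W.obj (op i)).prop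

/-- The neighbourhoods on `X`. -/
noncomputable abbrev U (i : T.ι) : X.Etale := (EtCoh.bc f).obj (T.W.obj (op i))

/-- The identification with the stage. -/
noncomputable def y (i : T.ι) : (T.Xs f).obj (op i) ⟶ (T.U f i).left :=
  (pullbackSymmetry f (T.W.obj (op i)).hom).hom

lemma y_hom (i : T.ι) : T.y f i ≫ (T.U f i).hom = T.b f i := pullbackSymmetry_hom_comp_snd _ _

lemma y_fst (i : T.ι) : T.y f i ≫ pullback.fst (T.W.obj (op i)).hom f = pullback.snd f (T.W.obj (op i)).hom :=
  pullbackSymmetry_hom_comp_fst _ _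

instance (i : T.ι) : IsIso (T.y f i) :=
  inferInstanceAs (IsIso (pullbackSymmetry f (T.W.obj (op i)).hom).hom)

/-- The projection of the limit. -/
noncomputable abbrev yl (i : T.ι) : pullback f σ ⟶ (T.U f i).left :=
  EtLim24.pr (T.Xs f) (T.cone f) i ≫ T.y f i

lemma yl_hom (i : T.ι) : T.yl f i ≫ (T.U f i).hom = pullback.fst f σ := by
  refine (Category.assoc _ _ _).trans ?_
  rw [T.y_hom f i]
  exact T.hb' f i

lemma yl_fst (i : T.ι) : T.yl f i ≫ pullback.fst (T.W.obj (op i)).hom f = pullback.snd f σ ≫ T.π.app (op i) := by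
  refine (Category.assoc _ _ _).trans ?_
  rw [T.y_fst f i]
  exact Descend.pbCone_snd _ _ _ _ _ _ _

/-- The element of the fibre. -/
noncomputable def φ (i : T.ι) : fib (closedPt R ≫ σ) (T.W.obj (op i)) :=
  Over.homMk (closedPt R ≫ T.π.app (op i)) ((Category.assoc _ _ _).trans (congrArg (closedPt R ≫ ·) (T.hπ i)))

lemma φ_map {i j : T.ι} (h : i ≤ j) :
    (Scheme.pointSmallEtale (closedPt R ≫ σ)).fiber.map (T.W.map (homOfLE h).op) (T.φ j) = T.φ i :=
  Over.OverMorphism.ext ((Category.assoc _ _ _).trans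
    (congrArg (closedPt R ≫ ·) ((T.π.naturality (homOfLE h).op).symm.trans (Category.id_comp _))))

/-- Restriction between stages. -/
noncomputable def ug {i j : T.ι} (h : i ≤ j) : T.U f j ⟶ T.U f i := (EtCoh.bc f).map (T.W.map (homOfLE h).op)

lemma y_ug {i j : T.ι} (h : i ≤ j) : T.y f j ≫ (T.ug f h).left = EtLim24.uM (T.Xs f) h ≫ T.y f i := by
  refine pullback.hom_ext ?_ ?_
  · refine (Category.assoc _ _ _).trans ?_
    refine (congrArg (T.y f j ≫ ·) (EtCoh.isPullback_bc_map f (T.W.map (homOfLE h).op)).w).trans ?_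
    refine (Category.assoc _ _ _).symm.trans ?_
    refine (congrArg (· ≫ (T.W.map (homOfLE h).op).left) (T.y_fst f j)).trans ?_
    refine Eq.trans ?_ (Category.assoc _ _ _).symm
    refine Eq.trans ?_ (congrArg (EtLim24.uM (T.Xs f) h ≫ ·) (T.y_fst f i)).symm
    exact (Descend.pbMap_snd T.D T.t f (homOfLE h).op).symm
  · refine (Category.assoc _ _ _).trans ?_
    refine (congrArg (T.y f j ≫ ·) (MorphismProperty.Over.w ((EtCoh.bc f).map (T.W.map (homOfLE h).op)))).trans ?_
    refine (T.y_hom f j).trans (Eq.trans ?_ (Category.assoc _ _ _).symm)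
    exact ((congrArg (EtLim24.uM (T.Xs f) h ≫ ·) (T.y_hom f i)).trans (T.hb f h)).symm

lemma yl_ug {i j : T.ι} (h : i ≤ j) : T.yl f j ≫ (T.ug f h).left = T.yl f i := by
  refine (Category.assoc _ _ _).trans ?_
  refine (congrArg (EtLim24.pr (T.Xs f) (T.cone f) j ≫ ·) (T.y_ug f h)).trans ?_
  exact (Category.assoc _ _ _).symm.trans (congrArg (· ≫ T.y f i) (EtLim24.pr_w (Xs := T.Xs f) (c := T.cone f) h))

variable [QuasiCompact f] [QuasiSeparated f] (F : EtCoh.Ab X)

/-- The sections at a stage. -/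
noncomputable abbrev M (i : T.ι) : AddCommGrpCat.{u + 1} := F.obj.obj (op (T.U f i))

/-- Transition. -/
noncomputable abbrev Tr ⦃i j : T.ι⦄ (h : i ≤ j) : T.M f F i ⟶ T.M f F j := F.obj.map (T.ug f h).op

/-- To the stalk. -/
noncomputable def ga (i : T.ι) : T.M f F i ⟶ (EtCoh.stalk (closedPt R ≫ σ)).obj ((EtCoh.push f).obj F) :=
  germ (closedPt R ≫ σ) ((EtCoh.push f).obj F) (T.φ i)

/-- To the global sections. -/
noncomputable def gb (i : T.ι) : T.M f F i ⟶
    ((EtCoh.pull (pullback.fst f σ)).obj F).obj.obj (op (EtCoh.top (pullback f σ))) :=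
  AddCommGrpCat.ofHom (sec (pullback.fst f σ) F (T.U f i) (T.yl f i) (T.yl_hom f i))

lemma ga_Tr {i j : T.ι} (h : i ≤ j) : T.Tr f F h ≫ T.ga f F j = T.ga f F i := by
  refine AddCommGrpCat.ext fun x => ?_
  refine (germ_map (closedPt R ≫ σ) ((EtCoh.push f).obj F) (T.W.map (homOfLE h).op) (T.φ j) x).trans ?_
  rw [T.φ_map h]
  rfl

lemma gb_Tr {i j : T.ι} (h : i ≤ j) : T.Tr f F h ≫ T.gb f F j = T.gb f F i :=
  AddCommGrpCat.ext fun x => sec_map _ F (T.ug f h) _ _ _ _ (T.yl_ug f h) x

omit [QuasiCompact f] [QuasiSeparated f] in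
lemma bc_top_hom_ext {A B C : Scheme.{u}} {x : A ⟶ B} {v : B ⟶ C} {W : A.Etale}
    (a b : W ⟶ (EtCoh.bc x).obj ((EtCoh.bc v).obj (EtCoh.top C))) : a = b := by
  refine EtLim24.bc_hom_ext₂ ?_
  have ha := EtLim24.left_fst_fst_hom a
  have hb := EtLim24.left_fst_fst_hom b
  erw [Category.comp_id] at ha hb
  rw [← Category.assoc, ← Category.assoc]
  exact ha.trans hb.symm

omit [QuasiCompact f] [QuasiSeparated f] in
lemma top_hom_ext {A : Scheme.{u}} {W : A.Etale} (a b : W ⟶ EtCoh.top A) : a = b :=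
  (EtColim.isTerminalTop' A).hom_ext a b

omit [QuasiCompact f] [QuasiSeparated f] in
lemma map_topUp_injective {A B : Scheme.{u}} (v : A ⟶ B) (G : EtCoh.Ab A) :
    Function.Bijective (G.obj.map (topUp v).op) := by
  haveI : IsIso (topUp v) := ⟨(EtColim.isTerminalTop' A).from _, top_hom_ext _ _, EtLim24.bc_hom_ext (by
    have h := EtLim24.left_fst_hom (((EtColim.isTerminalTop' A).from ((EtCoh.bc v).obj (EtCoh.top B))) ≫ topUp v)
    have h' := EtLim24.left_fst_hom (𝟙 ((EtCoh.bc v).obj (EtCoh.top B)))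
    erw [Category.comp_id] at h h'
    exact h.trans h'.symm)⟩
  exact ConcreteCategory.bijective_of_isIso _

lemma gb_surj (p : ((EtCoh.pull (pullback.fst f σ)).obj F).obj.obj (op (EtCoh.top (pullback f σ)))) :
    ∃ i x, T.gb f F i x = p := by
  let Sy := EtLim24.baseSys (c := T.cone f) (T.b f) (T.hb f) (pullback.fst f σ) (T.hb' f) F
  have hS : Sy.IsLim := EtLim24.isLim_baseSys (c := T.cone f) (T.b f) (T.hb f) (pullback.fst f σ) (T.hb' f) F
    (T.isAffineHom_map f) (T.isLimit_cone f)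
  let i := Classical.arbitrary T.ι
  let G := (EtCoh.pull (pullback.fst f σ)).obj F
  obtain ⟨p', hp'⟩ := (map_topUp_injective (EtLim24.pr (T.Xs f) (T.cone f) i) G).2 p
  have hc : CompactSpace (EtCoh.top ((T.Xs f).obj (op i))).left := inferInstanceAs (CompactSpace ((T.Xs f).obj (op i)))
  have hq : QuasiSeparatedSpace (EtCoh.top ((T.Xs f).obj (op i))).left :=
    inferInstanceAs (QuasiSeparatedSpace ((T.Xs f).obj (op i)))
  obtain ⟨j, h, y, hy⟩ := hS.surj i (EtCoh.top _) hc hq p'
  obtain ⟨x, hx⟩ := (bijective_sec (T.b f j) F (T.U f j) (T.y f j) (T.y_hom f j)).2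
    (((EtCoh.pull (T.b f j)).obj F).obj.map (topUp (EtLim24.uM (T.Xs f) h)).op y)
  refine ⟨j, x, ?_⟩
  show sec _ F _ _ _ x = p
  refine ((sec_trans (EtLim24.pr (T.Xs f) (T.cone f) j) (T.b f j) (pullback.fst f σ) (T.hb' f j) F (T.U f j)
    (T.y f j) (T.y_hom f j) (T.yl_hom f j) x).symm).trans ?_
  rw [hx]
  let η := EtLim24.bη (c := T.cone f) (T.b f) (pullback.fst f σ) (T.hb' f) F j
  let d : G.obj.obj (op ((EtCoh.bc (EtLim24.pr (T.Xs f) (T.cone f) j)).obj
      ((EtCoh.bc (EtLim24.uM (T.Xs f) h)).obj (EtCoh.top _)))) := η.hom.app (op _) y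
  have hd : G.obj.map ((EtLim24.bcc (EtLim24.pr (T.Xs f) (T.cone f) j) (EtLim24.uM (T.Xs f) h)
      (EtLim24.pr (T.Xs f) (T.cone f) i) (EtLim24.pr_w h)).inv.app (EtCoh.top _)).op d = p' := by
    refine (EtLim24.pc_app (EtLim24.pr (T.Xs f) (T.cone f) j) (EtLim24.uM (T.Xs f) h)
      (EtLim24.pr (T.Xs f) (T.cone f) i) (EtLim24.pr_w h) G (EtCoh.top _) d).symm.trans ?_
    refine Eq.trans ?_ hy
    show _ = (EtLim24.bmap h (η ≫ (EtCoh.push (EtLim24.pr (T.Xs f) (T.cone f) j)).map (𝟙 G))).hom.app (op _) y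
    erw [CategoryTheory.Functor.map_id, Category.comp_id]
    rfl
  refine (congrArg (G.obj.map (topUp (EtLim24.pr (T.Xs f) (T.cone f) j)).op)
    (NatTrans.naturality_apply η.hom (topUp (EtLim24.uM (T.Xs f) h)).op y)).trans ?_
  rw [← hp', ← hd]
  show G.obj.map _ (G.obj.map ((EtCoh.bc (EtLim24.pr (T.Xs f) (T.cone f) j)).map
    (topUp (EtLim24.uM (T.Xs f) h))).op d) = _
  rw [← Functor.map_comp_apply, ← Functor.map_comp_apply]
  exact congrArg (fun m : EtCoh.top _ ⟶ _ => G.obj.map m.op d) (bc_top_hom_ext _ _)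

lemma gb_inj (i : T.ι) (x : T.M f F i) (hx : T.gb f F i x = 0) :
    ∃ (j : T.ι) (h : i ≤ j), T.Tr f F h x = 0 := by
  let Sy := EtLim24.baseSys (c := T.cone f) (T.b f) (T.hb f) (pullback.fst f σ) (T.hb' f) F
  have hS : Sy.IsLim := EtLim24.isLim_baseSys (c := T.cone f) (T.b f) (T.hb f) (pullback.fst f σ) (T.hb' f) F
    (T.isAffineHom_map f) (T.isLimit_cone f)
  let G := (EtCoh.pull (pullback.fst f σ)).obj F
  let s₀ := sec (T.b f i) F (T.U f i) (T.y f i) (T.y_hom f i) x
  have h0 : (EtLim24.bη (c := T.cone f) (T.b f) (pullback.fst f σ) (T.hb' f) F i).hom.app (op (EtCoh.top _)) s₀ = 0 := by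
    refine (map_topUp_injective (EtLim24.pr (T.Xs f) (T.cone f) i) G).1 ?_
    refine Eq.trans ?_ (map_zero _).symm
    exact (sec_trans (EtLim24.pr (T.Xs f) (T.cone f) i) (T.b f i) (pullback.fst f σ) (T.hb' f i) F (T.U f i)
      (T.y f i) (T.y_hom f i) (T.yl_hom f i) x).trans hx
  have hc : CompactSpace (EtCoh.top ((T.Xs f).obj (op i))).left := inferInstanceAs (CompactSpace ((T.Xs f).obj (op i)))
  have hq : QuasiSeparatedSpace (EtCoh.top ((T.Xs f).obj (op i))).left :=
    inferInstanceAs (QuasiSeparatedSpace ((T.Xs f).obj (op i)))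
  have ha : (Sy.a i).hom.app (op (EtCoh.top _)) s₀ = 0 := by
    show (EtLim24.bη (c := T.cone f) (T.b f) (pullback.fst f σ) (T.hb' f) F i ≫
      (EtCoh.push (EtLim24.pr (T.Xs f) (T.cone f) i)).map (𝟙 G)).hom.app (op (EtCoh.top _)) s₀ = 0
    erw [CategoryTheory.Functor.map_id, Category.comp_id]
    exact h0
  obtain ⟨j, h, hj⟩ := hS.inj i (EtCoh.top _) hc hq s₀ ha
  refine ⟨j, h, (bijective_sec (T.b f j) F (T.U f j) (T.y f j) (T.y_hom f j)).1 ?_⟩
  rw [map_zero]
  refine (sec_map (T.b f j) F (T.ug f h) (T.y f j) (T.y_hom f j) (EtLim24.uM (T.Xs f) h ≫ T.y f i)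
    ((Category.assoc _ _ _).trans ((congrArg (_ ≫ ·) (T.y_hom f i)).trans (T.hb f h))) (T.y_ug f h) x).trans ?_
  rw [← sec_trans (EtLim24.uM (T.Xs f) h) (T.b f i) (T.b f j) (T.hb f h) F (T.U f i) (T.y f i) (T.y_hom f i)]
  exact (congrArg (((EtCoh.pull (T.b f j)).obj F).obj.map (topUp (EtLim24.uM (T.Xs f) h)).op) hj).trans (map_zero _)

omit [QuasiCompact f] [QuasiSeparated f] in
lemma exists_stage_map (V : S.Etale) (l : Spec (CommRingCat.of R) ⟶ V.left) (hl : l ≫ V.hom = σ) :
    ∃ (j : T.ι) (m : T.W.obj (op j) ⟶ V), T.π.app (op j) ≫ m.left = l := by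
  haveI : AlgebraicGeometry.Etale V.hom := V.prop
  haveI : ∀ {a b : T.ιᵒᵖ} (h : a ⟶ b), IsAffineHom (T.D.map h) := fun h => inferInstance
  obtain ⟨i, g, hg, hg'⟩ := Scheme.exists_π_app_comp_eq_of_locallyOfFinitePresentation T.D T.t V.hom
    (Cone.mk _ T.π) T.isLimit l (by ext i : 2; exact (T.hπ i.unop).trans hl.symm)
  exact ⟨i.unop, MorphismProperty.Over.homMk g hg', hg⟩

lemma ga_surj (p : (EtCoh.stalk (closedPt R ≫ σ)).obj ((EtCoh.push f).obj F)) :
    ∃ i x, T.ga f F i x = p := by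
  obtain ⟨V, v, s, rfl⟩ := germ_surjective (closedPt R ≫ σ) ((EtCoh.push f).obj F) p
  obtain ⟨l, hl, hlv⟩ := exists_lift σ V v
  obtain ⟨j, m, hm⟩ := T.exists_stage_map V l hl
  refine ⟨j, ((EtCoh.push f).obj F).obj.map m.op s, ?_⟩
  refine (germ_map (closedPt R ≫ σ) ((EtCoh.push f).obj F) m (T.φ j) s).trans ?_
  have e : (Scheme.pointSmallEtale (closedPt R ≫ σ)).fiber.map m (T.φ j) = v :=
    Over.OverMorphism.ext ((Category.assoc _ _ _).trans ((congrArg (closedPt R ≫ ·) hm).trans hlv))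
  rw [e]

lemma ker_iff (i : T.ι) (x : T.M f F i) : T.ga f F i x = 0 ↔ T.gb f F i x = 0 := by
  constructor
  · intro hx
    obtain ⟨V, g, v, hv, he⟩ := (germ_eq_iff (closedPt R ≫ σ) ((EtCoh.push f).obj F) (T.φ i) x 0).1
      (by rw [map_zero]; exact hx)
    obtain ⟨l, hl, hlv⟩ := exists_lift σ V v
    have hlg : l ≫ g.left = T.π.app (op i) := by
      refine lift_unique σ (T.W.obj (op i)) _ _ ?_ (T.hπ i) ?_
      · exact (Category.assoc _ _ _).trans ((congrArg (l ≫ ·) (MorphismProperty.Over.w g)).trans hl)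
      · refine (Category.assoc _ _ _).symm.trans ((congrArg (· ≫ g.left) hlv).trans ?_)
        exact congrArg (fun r : fib (closedPt R ≫ σ) (T.W.obj (op i)) => r.left) hv
    have hy₀ : (pullback.snd f σ ≫ l) ≫ V.hom = pullback.fst f σ ≫ f := by
      rw [Category.assoc, hl]; exact pullback.condition.symm
    let y' : pullback f σ ⟶ ((EtCoh.bc f).obj V).left := pullback.lift (pullback.snd f σ ≫ l) (pullback.fst f σ) hy₀
    have hy' : y' ≫ ((EtCoh.bc f).obj V).hom = pullback.fst f σ := pullback.lift_snd _ _ _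
    have hyg : y' ≫ ((EtCoh.bc f).map g).left = T.yl f i := by
      refine pullback.hom_ext ?_ ?_
      · refine (Category.assoc _ _ _).trans ?_
        refine (congrArg (y' ≫ ·) (EtCoh.isPullback_bc_map f g).w).trans ?_
        refine (Category.assoc _ _ _).symm.trans ?_
        refine (congrArg (· ≫ g.left) (pullback.lift_fst _ _ _)).trans ?_
        refine (Category.assoc _ _ _).trans ?_
        exact (congrArg (pullback.snd f σ ≫ ·) hlg).trans (T.yl_fst f i).symm
      · refine (Category.assoc _ _ _).trans ?_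
        refine (congrArg (y' ≫ ·) (MorphismProperty.Over.w ((EtCoh.bc f).map g))).trans ?_
        exact hy'.trans (T.yl_hom f i).symm
    refine (sec_map (pullback.fst f σ) F ((EtCoh.bc f).map g) y' hy' (T.yl f i) (T.yl_hom f i) hyg x).symm.trans ?_
    rw [show F.obj.map ((EtCoh.bc f).map g).op x = 0 from he.trans (map_zero _)]
    exact map_zero _
  · intro hx
    obtain ⟨j, h, hj⟩ := T.gb_inj f F i x hx
    rw [← ConcreteCategory.congr_hom (T.ga_Tr f F h) x]
    exact (congrArg (T.ga f F j) hj).trans (map_zero _)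

theorem exists_iso₀ : ∃ e : (EtCoh.stalk (closedPt R ≫ σ)).obj ((EtCoh.push f).obj F) ≅
    ((EtCoh.pull (pullback.fst f σ)).obj F).obj.obj (op (EtCoh.top (pullback f σ))),
    ∀ i, T.ga f F i ≫ e.hom = T.gb f F i :=
  exists_iso_of_reps (T.M f F) (T.Tr f F) (T.ga f F) (T.gb f F) (fun _ _ h => T.ga_Tr f F h)
    (fun _ _ h => T.gb_Tr f F h) (T.ga_surj f F) (T.gb_surj f F) (T.ker_iff f F)

/-- Stalks of direct images are global sections on the strict localization. -/
noncomputable def iso₀ : EtCoh.push f ⋙ EtCoh.stalk (closedPt R ≫ σ) ≅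
    EtCoh.pull (pullback.fst f σ) ⋙ EtColim.secFun (EtCoh.top (pullback f σ)) :=
  NatIso.ofComponents (fun F => (T.exists_iso₀ f F).choose) (fun {F G} a => by
    refine AddCommGrpCat.ext fun p => ?_
    obtain ⟨i, x, rfl⟩ := T.ga_surj f F p
    let e₁ := ConcreteCategory.congr_hom ((T.exists_iso₀ f F).choose_spec i) x
    let e₂ := ConcreteCategory.congr_hom ((T.exists_iso₀ f G).choose_spec i) (a.hom.app (op (T.U f i)) x)
    show (T.exists_iso₀ f G).choose.hom ((EtCoh.stalk (closedPt R ≫ σ)).map ((EtCoh.push f).map a) (T.ga f F i x)) =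
      ((EtCoh.pull (pullback.fst f σ)).map a).hom.app (op (EtCoh.top _)) ((T.exists_iso₀ f F).choose.hom (T.ga f F i x))
    refine Eq.trans ?_ (congrArg (((EtCoh.pull (pullback.fst f σ)).map a).hom.app (op (EtCoh.top _))) e₁).symm
    refine Eq.trans ?_ (sec_nat _ a _ _ _ x).symm
    refine Eq.trans ?_ e₂
    exact congrArg (T.exists_iso₀ f G).choose.hom (germ_nat (closedPt R ≫ σ) ((EtCoh.push f).map a) (T.φ i) x))

include T in
theorem subsingleton_H_injective (I : EtCoh.Ab X) [Injective I] (n : ℕ) :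
    Subsingleton (EtCoh.H (pullback f σ) ((EtCoh.pull (pullback.fst f σ)).obj I) (n + 1)) := by
  refine subsingleton_of_forall_eq 0 fun ξ => ?_
  obtain ⟨i, x, rfl⟩ := (EtLim24.limit_base (c := T.cone f) (T.b f) (T.hb f) (pullback.fst f σ) (T.hb' f) I
    (T.isAffineHom_map f) (T.isLimit_cone f) (n + 1)).1 ξ
  haveI : Injective ((EtCoh.pull (T.b f i)).obj I) := injective_pull (T.b f i) I
  rw [show x = 0 from Ext.eq_zero_of_injective x, map_zero]
  rfl

include T in
/-- Stalks of higher direct images are cohomology of the strict localization. -/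
theorem nonempty_stalk_Rpush_iso (n : ℕ) :
    Nonempty (EtCoh.Rpush f n ⋙ EtCoh.stalk (closedPt R ≫ σ) ≅
      EtCoh.pull (pullback.fst f σ) ⋙ EtCoh.HF (pullback f σ) n) := by
  let g := pullback.fst f σ
  let P := EtCoh.const (pullback f σ) ℤ
  let Hm := preadditiveCoyoneda.obj (op P)
  let adj := EtCoh.pullPushAdj g
  haveI : (EtCoh.pull g).Additive := adj.left_adjoint_additive
  haveI : PreservesColimitsOfSize.{0, 0} (EtCoh.pull g) := adj.leftAdjoint_preservesColimits
  haveI : PreservesFiniteColimits (EtCoh.pull g) := PreservesColimitsOfSize.preservesFiniteColimits.{0, 0} _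
  haveI : (EtCoh.pull g).PreservesHomology := inferInstance
  haveI : PreservesBinaryBiproducts (EtCoh.stalk (closedPt R ≫ σ)) :=
    preservesBinaryBiproducts_of_preservesBinaryProducts _
  haveI : (EtCoh.stalk (closedPt R ≫ σ)).Additive := Functor.additive_of_preservesBinaryBiproducts _
  haveI : (EtCoh.stalk (closedPt R ≫ σ)).PreservesHomology := inferInstance
  let e₀ : EtCoh.push f ⋙ EtCoh.stalk (closedPt R ≫ σ) ≅ EtCoh.pull g ⋙ Hm :=
    T.iso₀ f ≪≫ Functor.isoWhiskerLeft _ (topSecIso (pullback f σ)).symm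
  let eH : ∀ k, Hm.rightDerived k ≅ EtCoh.HF (pullback f σ) k := fun k =>
    ExtDerived.rightDerivedCoyonedaNatIso P k ≪≫
      NatIso.ofComponents (fun F => Iso.refl _) (fun φ => by ext x; rfl)
  have hac : ∀ I : EtCoh.Ab X, Injective I → RFPlus.IsAcyclicObj Hm ((EtCoh.pull g).obj I) := by
    intro I hI i hi
    obtain ⟨k, rfl⟩ : ∃ k, i = k + 1 := ⟨i - 1, by omega⟩
    haveI := T.subsingleton_H_injective f I k
    exact IsZero.of_iso (AddCommGrpCat.isZero_of_subsingleton
      (AddCommGrpCat.of (EtCoh.H (pullback f σ) ((EtCoh.pull g).obj I) (k + 1)))) ((eH (k + 1)).app _)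
  obtain ⟨e₂⟩ := RDComp.nonempty_rightDerivedAcyclicIso (EtCoh.pull g) Hm hac n
  exact ⟨(RDComp.rightDerivedPostIso (EtCoh.push f) (EtCoh.stalk (closedPt R ≫ σ)) n).symm ≪≫
    ExtDerived.rightDerivedMapIso n e₀ ≪≫ e₂ ≪≫ Functor.isoWhiskerLeft _ (eH n)⟩

end StrictSys

end Groth.Agent.StrictLim24
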