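import Groth.Agent.Lib.Hens.IndEtale
import Mathlib.FieldTheory.Separable
import Mathlib.RingTheory.Localization.AtPrime.Basic

/-!
# A strict henselization of a local ring of an algebra is a filtered colimit of étale algebras
-/

set_option autoImplicit false
set_option linter.style.haveILetI false

universe u

open CategoryTheory IsLocalRing Polynomial

namespace Groth.Agent.StrictLim24

open Groth.Agent

variable (A : Type u) [CommRing A] (p : Ideal A) [p.IsPrime] (O : Type u) [CommRing O] [IsLocalRing O]
  [Algebra A O] [IsLocalization.AtPrime O p] (R : Type u) [CommRing R] [IsLocalRing R] [Algebra O R]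
  [IsLocalHom (algebraMap O R)] [Hensel.IsStrictHenselization O R] [Algebra A R] [IsScalarTower A O R]

include p O in
/-- The strict henselization is a filtered colimit of étale algebras. -/
theorem exists_etale_system :
    ∃ φ : ∀ i : Hens.EtNbhd A (ResidueField R), i.toNbhd.S →ₐ[A] R,
      (∀ (i j : Hens.EtNbhd A (ResidueField R)) (f : i ⟶ j) x, φ j (f.1 x) = φ i x) ∧
      (∀ i x, residue R (φ i x) = i.toNbhd.σ x) ∧ (∀ r, ∃ i y, φ i y = r) ∧
      (∀ i a b, φ i a = φ i b → ∃ (k : Hens.EtNbhd A (ResidueField R)) (f : i ⟶ k), f.1 a = f.1 b) := by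
  haveI : HenselianLocalRing R := Hensel.IsStrictHenselization.henselian (R := O) (S := R)
  haveI : IsSepClosure (ResidueField O) (ResidueField R) :=
    Hensel.IsStrictHenselization.isSepClosure (R := O) (S := R)
  haveI hsep : Algebra.IsSeparable (ResidueField O) (ResidueField R) := IsSepClosure.separable
  let K := ResidueField R
  let H := Hens.Hs A K
  obtain ⟨g, hg, -⟩ := Hens.Hs.existsUnique_lift (R := A) (K := K) R (AlgHom.id A K)
  replace hg : ∀ x, residue R (g x) = Hens.Hs.res x := hg
  have hK : ∀ a, algebraMap A K a = residue R (algebraMap O R (algebraMap A O a)) := fun a => by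
    rw [← IsScalarTower.algebraMap_apply A O R]
    rfl
  have hu : ∀ a : p.primeCompl, IsUnit (algebraMap A H (a : A)) := fun a => by
    rw [Hens.Hs.isUnit_iff, AlgHom.commutes, hK, residue_ne_zero_iff_isUnit]
    exact (IsLocalization.map_units O a).map _
  let f : O →+* H := IsLocalization.lift (M := p.primeCompl) hu
  have hf : ∀ a, f (algebraMap A O a) = algebraMap A H a := IsLocalization.lift_eq hu
  have hres : ∀ o, Hens.Hs.res (f o) = residue R (algebraMap O R o) := by
    intro o
    have h : (Hens.Hs.res : H →ₐ[A] K).toRingHom.comp f = (residue R).comp (algebraMap O R) := by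
      refine IsLocalization.ringHom_ext p.primeCompl (RingHom.ext fun a => ?_)
      show Hens.Hs.res (f (algebraMap A O a)) = residue R (algebraMap O R (algebraMap A O a))
      rw [hf, AlgHom.commutes, hK]
    exact congr($h o)
  haveI : IsLocalHom f := ⟨fun o ho => by
    rw [Hens.Hs.isUnit_iff, hres, residue_ne_zero_iff_isUnit] at ho
    exact IsUnit.of_map (algebraMap O R) o ho⟩
  let ρ : ResidueField H →+* K :=
    Ideal.Quotient.lift _ (Hens.Hs.res : H →ₐ[A] K).toRingHom fun x hx => (Hens.Hs.res_eq_zero_iff x).mpr hx
  have hρ : ∀ x, ρ (residue H x) = Hens.Hs.res x := fun x => rfl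
  have hρ' : Function.Surjective ρ := by
    intro b
    let L := ρ.fieldRange
    let i₀ : ResidueField O →+* L := (algebraMap (ResidueField O) K).codRestrict L fun x => by
      obtain ⟨o, rfl⟩ := residue_surjective x
      exact ⟨residue H (f o), (hρ (f o)).trans (hres o)⟩
    letI := i₀.toAlgebra
    haveI : IsScalarTower (ResidueField O) L K := IsScalarTower.of_algebraMap_eq fun x => rfl
    haveI : Algebra.IsSeparable L K := Algebra.isSeparable_tower_top_of_isSeparable (ResidueField O) L K
    let π : H →+* L := (Hens.Hs.res : H →ₐ[A] K).toRingHom.codRestrict L fun x => ⟨residue H x, hρ x⟩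
    have hπ : Function.Surjective π := fun y => by
      obtain ⟨z, hz⟩ := y.2
      obtain ⟨x, rfl⟩ := residue_surjective z
      exact ⟨x, Subtype.ext hz⟩
    obtain ⟨F, hFmap, -, hF⟩ := lifts_and_degree_eq_and_monic
      (mem_lifts_of_surjective hπ (minpoly L b)) (minpoly.monic (Algebra.IsSeparable.isIntegral L b))
    have hmap : F.map (Hens.Hs.res : H →ₐ[A] K).toRingHom = (minpoly L b).map (algebraMap L K) := by
      rw [← hFmap, Polynomial.map_map]
      rfl
    obtain ⟨a, -, ha⟩ := Hens.Hs.exists_root F hF b
      (by rw [hmap, eval_map, ← aeval_def, minpoly.aeval])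
      (by
        rw [hmap, derivative_map, eval_map, ← aeval_def]
        exact (Algebra.IsSeparable.isSeparable L b).aeval_derivative_ne_zero (minpoly.aeval _ _))
    exact ⟨residue H a, (hρ a).trans ha⟩
  let ρe : ResidueField H ≃+* K := RingEquiv.ofBijective ρ ⟨ρ.injective, hρ'⟩
  let τ : K →+* ResidueField H := ρe.symm.toRingHom
  have hτρ : ∀ k, ρ (τ k) = k := ρe.apply_symm_apply
  have hτ : τ.comp (ResidueField.map (algebraMap O R)) = ResidueField.map f := by
    ext x
    obtain ⟨o, rfl⟩ := residue_surjective x
    refine ρ.injective ?_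
    show ρ (τ (residue R (algebraMap O R o))) = ρ (residue H (f o))
    rw [hτρ, hρ, hres]
  obtain ⟨h, ⟨hh, hhτ⟩, -⟩ := Hensel.IsStrictHenselization.universal (R := O) (S := R) H f τ hτ
  have hhres : ∀ r, Hens.Hs.res (h r) = residue R r := fun r => by rw [← hρ, hhτ, hτρ]
  let hA : R →ₐ[A] H :=
    { h with
      commutes' := fun a => by
        show h (algebraMap A R a) = _
        rw [IsScalarTower.algebraMap_apply A O R, ← hf]
        exact congr($hh _) }
  have hgh : ∀ r, g (h r) = r := by
    intro r
    obtain ⟨t, -, ht⟩ := Hensel.IsStrictHenselization.universal (R := O) (S := R) R (algebraMap O R)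
      (RingHom.id _) (RingHom.id_comp _)
    have h1 : (g.toRingHom.comp h).comp (algebraMap O R) = algebraMap O R := by
      refine IsLocalization.ringHom_ext p.primeCompl (RingHom.ext fun a => ?_)
      show g (h (algebraMap O R (algebraMap A O a))) = algebraMap O R (algebraMap A O a)
      rw [← IsScalarTower.algebraMap_apply A O R]
      exact (congrArg g (hA.commutes a)).trans (g.commutes a)
    have e1 := ht (g.toRingHom.comp h) ⟨h1, fun x => by
      show residue R (g (h x)) = residue R x
      rw [hg, hhres]⟩
    have e2 := ht (RingHom.id R) ⟨RingHom.id_comp _, fun x => rfl⟩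
    exact congr($(e1.trans e2.symm) r)
  have hhg : ∀ x, h (g x) = x := by
    intro x
    let τ' : K →ₐ[A] ResidueField H :=
      { τ with
        commutes' := fun a => by
          refine ρ.injective ?_
          show ρ (τ (algebraMap A K a)) = ρ (residue H (algebraMap A H a))
          rw [hτρ, hρ, AlgHom.commutes] }
    obtain ⟨t, -, ht⟩ := Hens.Hs.existsUnique_lift (R := A) (K := K) H τ'
    have e1 := ht (hA.comp g) fun y => by
      show residue H (h (g y)) = τ (Hens.Hs.res y)
      rw [hhτ, hg]
    have e2 := ht (AlgHom.id A H) fun y => by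
      refine ρ.injective ?_
      show ρ (residue H y) = ρ (τ (Hens.Hs.res y))
      rw [hτρ, hρ]
    exact congr($(e1.trans e2.symm) x)
  refine ⟨fun i => g.comp i.toHs, fun i j k x => congrArg g (Hens.EtNbhd.toHs_hom k x), fun i x => ?_,
    fun r => ?_, fun i a b hab => ?_⟩
  · show residue R (g (i.toHs x)) = i.toNbhd.σ x
    rw [hg, Hens.EtNbhd.toHs_apply, Hens.Hs.res_of, Hens.Nbhd.res_algebraMap]
  · obtain ⟨i, y, hy⟩ := Hens.EtNbhd.exists_toHs (h r)
    exact ⟨i, y, (congrArg g hy).trans (hgh r)⟩
  · refine Hens.EtNbhd.exists_hom_eq ?_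
    rw [← hhg (i.toHs a), ← hhg (i.toHs b)]
    exact congrArg h hab

end Groth.Agent.StrictLim24
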